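import Groth.Agent.GrLib8.SurfExt.Main
import Groth.Agent.EtFound.ExtRealize
import Mathlib.GroupTheory.CosetCover
import Mathlib.RingTheory.Ideal.Quotient.Operations

/-!
# Extensions with locally free middle term: the criterion on subsets
-/

set_option autoImplicit false
set_option linter.style.haveILetI false
set_option linter.unusedSectionVars false
set_option backward.isDefEq.respectTransparency false
set_option backward.isDefEq.respectTransparency.types false
set_option maxHeartbeats 1000000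

universe w v u

open CategoryTheory CategoryTheory.Limits AlgebraicGeometry TopologicalSpace Opposite

noncomputable section

namespace Groth.Agent.GrLib8.SurfExt

theorem exists_notMem_of_divisible {G : Type*} [AddCommGroup G] {ι : Type*} (s : Finset ι) (H : ι → AddSubgroup G)
    (hdiv : ∀ m : ℕ, m ≠ 0 → ∀ g : G, ∃ g', m • g' = g) (hne : ∀ i ∈ s, H i ≠ ⊤) :
    ∃ g, ∀ i ∈ s, g ∉ H i := by
  by_contra h
  push Not at h
  obtain ⟨i, hi, hfi⟩ := AddSubgroup.exists_finiteIndex_of_leftCoset_cover (H := H) (g := fun _ => (0 : G)) (s := s)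
    (Set.eq_univ_of_forall fun g => by
      obtain ⟨i, hi, hg⟩ := h g
      exact Set.mem_iUnion₂.2 ⟨i, hi, by simpa using hg⟩)
  refine hne i hi (eq_top_iff.2 fun g _ => ?_)
  obtain ⟨g', rfl⟩ := hdiv _ hfi.index_ne_zero g
  exact (H i).nsmul_index_mem g'

section Radical

variable {R : Type u} [CommRing R] {T : Set (PrimeSpectrum R)}

theorem isRadical_of_finite_closed (hT : T.Finite) (hmax : ∀ p ∈ T, p.asIdeal.IsMaximal) {J : Ideal R}
    (hJ : PrimeSpectrum.vanishingIdeal T ≤ J) : J.IsRadical := by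
  classical
  have key : ∀ x : R, ∃ y, x - x * x * y ∈ J := by
    intro x
    haveI := hT.fintype
    have hp : ∀ p : T, ∃ y, x - x * x * y ∈ p.1.asIdeal := fun p => by
      by_cases hx : x ∈ p.1.asIdeal
      · exact ⟨0, by simpa using hx⟩
      · obtain ⟨y, m, hm, hy⟩ := (hmax p.1 p.2).exists_inv hx
        refine ⟨y, ?_⟩
        rw [show x - x * x * y = x * m + x * (1 - (y * x + m)) by ring, hy, sub_self, mul_zero, add_zero]
        exact p.1.asIdeal.mul_mem_left _ hm
    choose y hy using hp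
    obtain ⟨r, hr⟩ := Ideal.exists_forall_sub_mem_ideal (I := fun p : T => p.1.asIdeal)
      (fun p q hpq => Ideal.isCoprime_iff_sup_eq.2
        (Ideal.IsMaximal.coprime_of_ne (hmax p.1 p.2) (hmax q.1 q.2) fun e => hpq (Subtype.ext (PrimeSpectrum.ext e)))) y
    refine ⟨r, hJ ((PrimeSpectrum.mem_vanishingIdeal _ _).2 fun p hp => ?_)⟩
    rw [show x - x * x * r = (x - x * x * y ⟨p, hp⟩) - x * x * (r - y ⟨p, hp⟩) by ring]
    exact sub_mem (hy ⟨p, hp⟩) (p.asIdeal.mul_mem_left _ (hr ⟨p, hp⟩))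
  rintro x ⟨m, hm⟩
  induction m with
  | zero => rw [pow_zero] at hm; rw [(Ideal.eq_top_iff_one J).2 hm]; trivial
  | succ m ih =>
    rcases Nat.eq_zero_or_pos m with rfl | hm0
    · simpa using hm
    · refine ih ?_
      obtain ⟨y, hy⟩ := key x
      obtain ⟨l, rfl⟩ := Nat.exists_eq_succ_of_ne_zero hm0.ne'
      rw [show x ^ (l + 1) = x ^ l * (x - x * x * y) + y * x ^ (l + 1 + 1) by ring]
      exact add_mem (J.mul_mem_left _ hy) (J.mul_mem_left _ hm)

end Radical

variable {X : Scheme.{u}}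

theorem eq_vanishingIdeal_of_le {Z : Closeds X} (hfin : (Z : Set X).Finite) (hcl : ∀ z ∈ (Z : Set X), IsClosed ({z} : Set X))
    {I : X.IdealSheafData} (h : Scheme.IdealSheafData.vanishingIdeal Z ≤ I) :
    Scheme.IdealSheafData.vanishingIdeal I.support = I := by
  rw [Scheme.IdealSheafData.vanishingIdeal_support]
  refine Scheme.IdealSheafData.ext (funext fun U => ?_)
  rw [Scheme.IdealSheafData.radical_ideal]
  have h' := h U
  rw [Scheme.IdealSheafData.vanishingIdeal_ideal] at h'
  refine (isRadical_of_finite_closed (hfin.preimage U.2.fromSpec.isOpenEmbedding.injective.injOn) (fun p hp => ?_) h').radical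
  rw [← PrimeSpectrum.isClosed_singleton_iff_isMaximal]
  have hc := (hcl _ hp).preimage U.2.fromSpec.continuous
  rwa [show U.2.fromSpec ⁻¹' {U.2.fromSpec p} = {p} from
    Set.ext fun q => U.2.fromSpec.isOpenEmbedding.injective.eq_iff] at hc

theorem exists_hom_of_le {I J : X.IdealSheafData} (h : I ≤ J) :
    ∃ φ : ClSub.idealMod I ⟶ ClSub.idealMod J, φ ≫ ClSub.idealModι J = ClSub.idealModι I := by
  refine ⟨kernel.lift _ (ClSub.idealModι I) ?_, kernel.lift_ι _ _ _⟩
  apply Scheme.Modules.hom_ext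
  intro W
  ext s
  refine AModX.eq_of_locally (M := ClSub.quotMod J) _ _ fun p hp => ?_
  obtain ⟨_, ⟨A, hA, rfl⟩, hpA, hAW⟩ :=
    X.isBasis_affineOpens.exists_subset_of_mem_open (show p ∈ (W : X.Opens) from hp) W.2
  refine ⟨A, hAW, hpA, ?_⟩
  rw [show AModX.res (ClSub.quotMod J) hAW ((0 : ClSub.idealMod I ⟶ ClSub.quotMod J).app W s) = 0
    from map_zero _, ← AModX.app_res]
  have hm := h ⟨A, hA⟩ (OmegaLib.idealSect_mem I ⟨A, hA⟩ (AModX.res (ClSub.idealMod I) hAW s))
  rw [← J.ker_subschemeι_app, RingHom.mem_ker] at hm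
  exact hm

section Ext

variable [HasExt.{w} X.Modules]

theorem isIso_nsmul_id (hn : ∀ (m : ℕ), m ≠ 0 → IsUnit (m : Γ(X, ⊤))) (M : X.Modules) (m : ℕ) (hm : m ≠ 0) :
    IsIso (m • 𝟙 M) := by
  refine Scheme.Modules.Hom.isIso_iff_isIso_app.2 fun U => (ConcreteCategory.isIso_iff_bijective _).2 ?_
  have hu : IsUnit (m : Γ(X, U)) := by
    simpa using (hn m hm).map (X.presheaf.map (homOfLE (le_top : U ≤ ⊤)).op).hom
  have h : ∀ s : Γ(M, U), (m • 𝟙 M : M ⟶ M).app U s = (m : Γ(X, U)) • s := fun s => by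
    refine Eq.trans ?_ (Nat.cast_smul_eq_nsmul Γ(X, U) m s).symm
    let e : (M ⟶ M) →+ Γ(M, U) := { toFun := fun f => f.app U s, map_zero' := rfl, map_add' := fun _ _ => rfl }
    exact map_nsmul e m (𝟙 M)
  refine ⟨fun s t hst => ?_, fun t => ?_⟩
  · rw [h, h] at hst
    exact hu.smul_left_cancel.1 hst
  · exact ⟨(hu.unit⁻¹ : Γ(X, U)ˣ) • t, by rw [h, Units.smul_def, smul_smul, IsUnit.mul_val_inv, one_smul]⟩

theorem ext_divisible (hn : ∀ (m : ℕ), m ≠ 0 → IsUnit (m : Γ(X, ⊤))) (P M : X.Modules) (m : ℕ) (hm : m ≠ 0)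
    (e : Abelian.Ext P M 1) : ∃ e', m • e' = e := by
  haveI := isIso_nsmul_id hn M m hm
  refine ⟨e.comp (Abelian.Ext.mk₀ (inv (m • 𝟙 M))) (add_zero 1), ?_⟩
  let c : (M ⟶ M) →+ Abelian.Ext P M 1 :=
    { toFun := fun f => e.comp (Abelian.Ext.mk₀ f) (add_zero 1)
      map_zero' := by simp
      map_add' := fun f g => by simp [Abelian.Ext.mk₀_add] }
  have h1 : m • c (inv (m • 𝟙 M)) = c (m • inv (m • 𝟙 M)) := (map_nsmul c _ _).symm
  refine h1.trans ?_
  have h2 : m • inv (m • 𝟙 M) = 𝟙 M := by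
    refine Eq.trans ?_ (IsIso.hom_inv_id (m • 𝟙 M))
    rw [Preadditive.nsmul_comp, Category.id_comp]
  rw [h2]
  exact Abelian.Ext.comp_mk₀_id e

variable [IsIntegral X] [IsLocallyNoetherian X]

theorem criterion (hn : ∀ (m : ℕ), m ≠ 0 → IsUnit (m : Γ(X, ⊤)))
    (hreg : ∀ x : ↥X, IsRegularLocalRing (X.presheaf.stalk x)) (hdim : topologicalKrullDim ↥X ≤ 2)
    (hdepth : ∀ x : ↥X, IsClosed ({x} : Set X) → (2 : ℕ∞) ≤ LocCoh.depth (X.presheaf.stalk x) (X.presheaf.stalk x))
    {M : X.Modules} (hM : FlatMod.IsFinLocFree M) (Z : Finset X) (hZc : IsClosed ((Z : Set X)))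
    (hZ : ∀ z ∈ Z, IsClosed ({z} : Set X)) :
    (∃ (F : X.Modules) (a : M ⟶ F)
        (b : F ⟶ ClSub.idealMod (Scheme.IdealSheafData.vanishingIdeal ⟨(Z : Set X), hZc⟩)) (w : a ≫ b = 0),
        (ShortComplex.mk a b w).ShortExact ∧ FlatMod.IsFinLocFree F) ↔
      ∀ (Z' : Finset X) (hZ'c : IsClosed ((Z' : Set X))), Z' ⊂ Z →
        ∀ φ : ClSub.idealMod (Scheme.IdealSheafData.vanishingIdeal ⟨(Z : Set X), hZc⟩) ⟶
            ClSub.idealMod (Scheme.IdealSheafData.vanishingIdeal ⟨(Z' : Set X), hZ'c⟩),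
          φ ≫ ClSub.idealModι (Scheme.IdealSheafData.vanishingIdeal ⟨(Z' : Set X), hZ'c⟩) =
              ClSub.idealModι (Scheme.IdealSheafData.vanishingIdeal ⟨(Z : Set X), hZc⟩) →
            ¬ Function.Surjective ((Abelian.Ext.mk₀ φ).precomp M (zero_add 1)) := by
  classical
  set IZ := Scheme.IdealSheafData.vanishingIdeal ⟨(Z : Set X), hZc⟩ with hIZ
  have hsupp : ∀ (W : Closeds X), (Scheme.IdealSheafData.vanishingIdeal W).support = W := fun W => Closeds.ext rfl
  have hU : ∀ x : ↥X, x ∉ compl IZ → (2 : ℕ∞) ≤ LocCoh.depth (X.presheaf.stalk x) (X.presheaf.stalk x) := fun x hx =>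
    hdepth x (hZ x (by
      have h : x ∈ (IZ.support : Set X) := not_not.1 hx
      rw [hIZ, hsupp] at h
      exact h))
  constructor
  · rintro ⟨F, a, b, w, hex, hF⟩ Z' hZ'c hss φ hφ hsurj
    obtain ⟨e', he'⟩ := hsurj hex.extClass
    obtain ⟨F', a', b', w', hex', rfl⟩ := EtFound.exists_shortExact_of_class e'
    haveI : Mono a' := hex'.mono_f
    haveI : Epi b' := hex'.epi_g
    let pa : M ⟶ pullback b' φ := pullback.lift a' 0 (by rw [w', zero_comp])
    have wP : pa ≫ pullback.snd b' φ = 0 := pullback.lift_snd _ _ _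
    have hexP : (ShortComplex.mk pa (pullback.snd b' φ) wP).ShortExact := by
      haveI : Mono pa := mono_of_mono_fac (pullback.lift_fst a' 0 (by rw [w', zero_comp]))
      refine { exact := ShortComplex.exact_of_f_is_kernel _ ?_, mono_f := inferInstance, epi_g := inferInstance }
      refine KernelFork.IsLimit.ofι' _ wP fun {W} k hk => ⟨hex'.fIsKernel.lift (KernelFork.ofι (k ≫ pullback.fst b' φ) (by
        show (k ≫ pullback.fst b' φ) ≫ b' = 0
        rw [Category.assoc, pullback.condition, ← Category.assoc, hk, zero_comp])), ?_⟩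
      apply pullback.hom_ext
      · rw [Category.assoc, pullback.lift_fst]
        exact hex'.fIsKernel.fac _ WalkingParallelPair.zero
      · rw [Category.assoc, pullback.lift_snd, comp_zero, hk]
    have hcl : hex.extClass = hexP.extClass := by
      let m : ShortComplex.mk pa (pullback.snd b' φ) wP ⟶ ShortComplex.mk a' b' w' :=
        { τ₁ := 𝟙 M, τ₂ := pullback.fst b' φ, τ₃ := φ
          comm₁₂ := (Category.id_comp _).trans (pullback.lift_fst _ _ _).symm
          comm₂₃ := pullback.condition }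
      have h := ShortComplex.ShortExact.extClass_naturality hexP hex' m
      rw [Abelian.Ext.comp_mk₀_id] at h
      exact he'.symm.trans h.symm
    obtain ⟨i, hi₁, hi₂⟩ := ExtIso.exists_iso_of_extClass_eq hex hexP hcl
    have hlt : IZ < Scheme.IdealSheafData.vanishingIdeal ⟨(Z' : Set X), hZ'c⟩ := by
      refine lt_of_le_of_ne (Scheme.IdealSheafData.vanishingIdeal_antimono hss.subset) fun e => ?_
      have := congrArg (fun I : X.IdealSheafData => (I.support : Set X)) e
      simp only [hIZ, hsupp] at this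
      exact hss.ne (Finset.coe_injective this).symm
    refine not_finLocFree_of_larger hex hU (g := i.hom ≫ pullback.fst b' φ) hlt hex' hφ ?_ ?_ hF
    · rw [← Category.assoc, hi₁]
      exact pullback.lift_fst _ _ _
    · rw [Category.assoc, pullback.condition, ← Category.assoc, hi₂]
  · intro h
    have hclosed : ∀ Z' ∈ Z.ssubsets, IsClosed ((Z' : Set X)) := fun Z' hZ' => by
      rw [← Set.biUnion_of_singleton ((Z' : Set X))]
      exact Set.Finite.isClosed_biUnion Z'.finite_toSet fun z hz =>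
        hZ z ((Finset.mem_ssubsets.1 hZ').subset hz)
    have hφex : ∀ Z' : Z.ssubsets, ∃ φ : ClSub.idealMod IZ ⟶
        ClSub.idealMod (Scheme.IdealSheafData.vanishingIdeal ⟨((Z'.1 : Finset X) : Set X), hclosed _ Z'.2⟩),
        φ ≫ ClSub.idealModι _ = ClSub.idealModι IZ := fun Z' =>
      exists_hom_of_le (Scheme.IdealSheafData.vanishingIdeal_antimono (Finset.mem_ssubsets.1 Z'.2).subset)
    choose φ hφ using hφex
    obtain ⟨e, he⟩ := exists_notMem_of_divisible (Finset.univ : Finset Z.ssubsets)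
      (fun Z' => ((Abelian.Ext.mk₀ (φ Z')).precomp M (zero_add 1)).range)
      (fun m hm g => ext_divisible hn _ _ m hm g) (fun Z' _ htop => h Z'.1 (hclosed _ Z'.2) (Finset.mem_ssubsets.1 Z'.2) (φ Z') (hφ Z')
        (AddMonoidHom.range_eq_top.1 htop))
    obtain ⟨F, a, b, w, hex, rfl⟩ := EtFound.exists_shortExact_of_class e
    refine ⟨F, a, b, w, hex, by_contra fun hF => ?_⟩
    obtain ⟨I', F', a', b', w', ψ, g, hlt, hex', hψ, hag, hgb, -⟩ := exists_larger hM hex hU hreg hdim hF
    let Z' : Finset X := Z.filter fun z => z ∈ (I'.support : Set X)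
    have hs : (I'.support : Set X) ⊆ Z := fun x hx => by
      have := support_subset_of_le hlt.le hx
      rw [hIZ, hsupp] at this
      exact this
    have hZ'eq : (Z' : Set X) = (I'.support : Set X) := by
      ext x
      simp only [Z', Finset.coe_filter, Set.mem_setOf_eq]
      exact ⟨fun h => h.2, fun h => ⟨hs h, h⟩⟩
    have hI' := eq_vanishingIdeal_of_le (Z := ⟨(Z : Set X), hZc⟩) Z.finite_toSet hZ hlt.le
    have hss : Z' ⊂ Z := by
      refine lt_of_le_of_ne (Finset.filter_subset _ _) fun e => hlt.ne ?_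
      have hW : I'.support = (⟨(Z : Set X), hZc⟩ : Closeds X) := Closeds.ext (hZ'eq.symm.trans (congrArg _ e))
      rw [← hI', hW]
    have hW : (⟨(Z' : Set X), hclosed _ (Finset.mem_ssubsets.2 hss)⟩ : Closeds X) = I'.support := Closeds.ext hZ'eq
    have fin : ∀ J, I' = J → ∀ φ' : ClSub.idealMod IZ ⟶ ClSub.idealMod J,
        φ' ≫ ClSub.idealModι J = ClSub.idealModι IZ →
          hex.extClass ∈ ((Abelian.Ext.mk₀ φ').precomp M (zero_add 1)).range := by
      intro J hJ φ' hφ'
      subst hJ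
      haveI : Mono (ClSub.idealModι I') := inferInstanceAs (Mono (kernel.ι _))
      have hψφ : φ' = ψ := by rw [← cancel_mono (ClSub.idealModι I'), hψ, hφ']
      subst hψφ
      let m : ShortComplex.mk a b w ⟶ ShortComplex.mk a' b' w' :=
        { τ₁ := 𝟙 M, τ₂ := g, τ₃ := φ', comm₁₂ := (Category.id_comp _).trans hag.symm, comm₂₃ := hgb }
      have h' := ShortComplex.ShortExact.extClass_naturality hex hex' m
      rw [Abelian.Ext.comp_mk₀_id] at h'
      exact ⟨hex'.extClass, h'.symm⟩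
    exact he ⟨Z', Finset.mem_ssubsets.2 hss⟩ (Finset.mem_univ _) (fin _ (by rw [hW, hI']) _ (hφ _))

end Ext

end Groth.Agent.GrLib8.SurfExt
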