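import Groth.Agent.GrLib8.SurfExt.Img
import Groth.Agent.RefX.Extension
import Groth.Agent.RegConormal.Free
import Groth.Agent.S1691
import Groth.Agent.S1689
import Groth.Agent.QCoh.LocFree
import Groth.Agent.QCoh.Tilde
import Groth.Agent.ParShLib.ResStalk
import Groth.Agent.Snapper.DimVanish
import Groth.Agent.KZ.CohClass
import Groth.Agent.KZ.Localization
import Groth.Agent.S10834
import Groth.Agent.SmoothReg.Scheme
import Groth.Agent.AffCompl.InterFinite
import Groth.Agent.GrpSchLib.SmoothRegular
import Groth.Agent.GrpSchLib.SmoothReduced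
import Groth.Agent.SchTop.Closed
import Groth.Agent.H9Misc.LocFreeHomTensor

/-!
# Extensions across finitely many points of a regular surface
-/

set_option autoImplicit false
set_option linter.style.haveILetI false
set_option linter.unusedSectionVars false
set_option backward.isDefEq.respectTransparency false
set_option backward.isDefEq.respectTransparency.types false
set_option maxHeartbeats 1000000

universe u

open CategoryTheory CategoryTheory.Limits AlgebraicGeometry TopologicalSpace Opposite

noncomputable section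

namespace Groth.Agent.GrLib8.SurfExt

variable {X : Scheme.{u}}

/-- The complement of the support of an ideal. -/
def compl (I : X.IdealSheafData) : X.Opens := ⟨(I.support : Set X)ᶜ, I.support.isClosed.isOpen_compl⟩

theorem isIso_stalk_idealModι (I : X.IdealSheafData) {x : X} (hx : x ∉ (I.support : Set X)) :
    IsIso ((DerSch.stalkFunctor X x).map (ClSub.idealModι I)) := by
  have hS : (ShortComplex.mk (ClSub.idealModι I) (ClSub.toSubscheme I) (kernel.condition _)).Exact :=
    ShortComplex.exact_of_f_is_kernel _ (kernelIsKernel _)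
  haveI : Mono ((DerSch.stalkFunctor X x).map (ClSub.idealModι I)) := by
    unfold ClSub.idealModι; infer_instance
  haveI : Epi ((DerSch.stalkFunctor X x).map (ClSub.idealModι I)) := (hS.map (DerSch.stalkFunctor X x)).epi_f
    ((Snapper.notMem_support_iff.1 (not_not.2 (ParShLib.subsingleton_stalk_quotMod I hx))).eq_of_tgt _ _)
  exact isIso_of_mono_of_epi _

theorem free_stalk_structureModule (x : X) :
    Module.Free (X.presheaf.stalk x) ((Coh.structureModule X).presheaf.stalk x) :=
  QCoh.free_stalk_of_isFinLocFree (H9Misc.LocFreeHomTensor.isFinLocFree_structure X) x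

/-- The middle term of an extension of an ideal by a locally free module is free outside the ideal's support. -/
theorem free_stalk_ext {M F : X.Modules} (hM : FlatMod.IsFinLocFree M) (I : X.IdealSheafData) {a : M ⟶ F}
    {b : F ⟶ ClSub.idealMod I} {w : a ≫ b = 0} (hex : (ShortComplex.mk a b w).ShortExact) {x : X}
    (hx : x ∉ (I.support : Set X)) : Module.Free (X.presheaf.stalk x) (F.presheaf.stalk x) := by
  let T := (ShortComplex.mk a b w).map (DerSch.stalkFunctor X x)
  haveI : Module.Free (X.presheaf.stalk x) T.X₁ := QCoh.free_stalk_of_isFinLocFree hM x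
  haveI : Module.Free (X.presheaf.stalk x) T.X₃ := by
    haveI := isIso_stalk_idealModι I hx
    haveI := free_stalk_structureModule x
    exact Module.Free.of_equiv' (free_stalk_structureModule x)
      (asIso ((DerSch.stalkFunctor X x).map (ClSub.idealModι I))).toLinearEquiv.symm
  exact ModuleCat.free_shortExact (hex.map_of_exact (DerSch.stalkFunctor X x))

theorem isFinLocFree_restrict_of_free [IsLocallyNoetherian X] {F : X.Modules} (hF : Coh.IsCoh F) (U : X.Opens)
    (h : ∀ x ∈ U, Module.Free (X.presheaf.stalk x) (F.presheaf.stalk x)) :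
    FlatMod.IsFinLocFree (F.restrict U.ι) := by
  refine QCoh.isFinLocFree_iff.2 ⟨QCoh.isCoh_iff_isFP.1 (KZ.Localization.isCoh_restrict U.ι hF), fun y => ?_⟩
  obtain ⟨e, he⟩ := RefX.exists_semilinear_restrict U.ι F y
  let σ : X.presheaf.stalk (U.ι.base y) ≃+* (U : Scheme.{u}).presheaf.stalk y :=
    (asIso (U.ι.stalkMap y)).commRingCatIsoToRingEquiv
  haveI := RingHomInvPair.of_ringEquiv σ
  haveI := RingHomInvPair.symm (σ : X.presheaf.stalk (U.ι.base y) →+* (U : Scheme.{u}).presheaf.stalk y) σ.symm
  haveI := h (U.ι.base y) y.2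
  exact Module.Free.of_equiv (R := X.presheaf.stalk (U.ι.base y))
    (e₂ := ({ e.symm with map_smul' := fun a m => e.injective (by
        simp only [AddEquiv.toEquiv_eq_coe, Equiv.toFun_as_coe, EquivLike.coe_coe]
        rw [e.apply_symm_apply]
        exact (((he a (e.symm m)).trans (congrArg (a • ·) (e.apply_symm_apply m))).symm : _)) } :
      F.presheaf.stalk (U.ι.base y) ≃ₛₗ[(σ : X.presheaf.stalk (U.ι.base y) →+* (U : Scheme.{u}).presheaf.stalk y)]
        (F.restrict U.ι).presheaf.stalk y))

/-- `j_* j^*`. -/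
abbrev jj (U : X.Opens) : X.Modules ⥤ X.Modules :=
  Scheme.Modules.restrictFunctor U.ι ⋙ Scheme.Modules.pushforward U.ι

/-- The unit `F ⟶ j_* j^* F`. -/
abbrev unit (U : X.Opens) : 𝟭 X.Modules ⟶ jj U := (Scheme.Modules.restrictAdjunction U.ι).unit

theorem isReflexive_stalk_of_finLocFree [IsLocallyNoetherian X] {F : X.Modules} (hF : FlatMod.IsFinLocFree F)
    (x : X) : Module.IsReflexive (X.presheaf.stalk x) (F.presheaf.stalk x) := by
  have hc := QCoh.isCoh_iff_isFP.2 (QCoh.isFP_of_isFinLocFree hF)
  haveI := QCoh.free_stalk_of_isFinLocFree hF x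
  haveI := QCoh.finite_stalk_of_isFT hc.1 hc.2 x
  exact inferInstanceAs (Module.IsReflexive (X.presheaf.stalk x) (F.presheaf.stalk x))

variable [IsIntegral X] [IsLocallyNoetherian X] {U : X.Opens}
  (hU : ∀ x : ↥X, x ∉ U → (2 : ℕ∞) ≤ LocCoh.depth (X.presheaf.stalk x) (X.presheaf.stalk x))

include hU in
theorem isIso_unit_of_finLocFree {F : X.Modules} (hF : FlatMod.IsFinLocFree F) : IsIso ((unit U).app F) :=
  (S1691.result X U hU).1 F (QCoh.isCoh_iff_isFP.2 (QCoh.isFP_of_isFinLocFree hF))
    (isReflexive_stalk_of_finLocFree hF)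

include hU in
theorem isFinLocFree_jj (hreg : ∀ x : ↥X, IsRegularLocalRing (X.presheaf.stalk x)) (hdim : topologicalKrullDim ↥X ≤ 2)
    {F : X.Modules} (hF : Coh.IsCoh F) (hfree : ∀ x ∈ U, Module.Free (X.presheaf.stalk x) (F.presheaf.stalk x)) :
    FlatMod.IsFinLocFree ((jj U).obj F) := by
  obtain ⟨h1, h2⟩ := (S1691.result X U hU).2 (F.restrict U.ι) (KZ.Localization.isCoh_restrict U.ι hF)
    (isReflexive_stalk_of_finLocFree (isFinLocFree_restrict_of_free hF U hfree))
  exact (S1689.result X hreg hdim _ h1).1 h2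

theorem depth_two_of_isClosed {k : Type u} [Field k] (f : X ⟶ Spec (CommRingCat.of k)) [Smooth f]
    (hdim : topologicalKrullDim X = 2) {x : X} (hx : IsClosed ({x} : Set X)) :
    (2 : ℕ∞) ≤ LocCoh.depth (X.presheaf.stalk x) (X.presheaf.stalk x) := by
  haveI := GrpSchLib.isRegularLocalRing_stalk_of_smooth f x
  have h := S10834.depth_of_regular (X.presheaf.stalk x)
  rw [SmoothReg.ringKrullDim_stalk_closedPoint f hx, hdim] at h
  exact (WithBot.coe_le_coe.1 (le_of_eq h.symm) : _)

end Groth.Agent.GrLib8.SurfExt
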