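import Groth.Agent.GrLib8.RegTilde.Exact
import Groth.Agent.OmegaLib.IdealMod
import Groth.Agent.QCoh.FT
import Groth.Agent.AModX.Res
import Groth.Prelude.Def_ClSub2
import Groth.Prelude.Def_Omega3

/-!
# The ideal sheaf which is the image of a map of a quasi-coherent module to `O`
-/

set_option autoImplicit false
set_option linter.style.haveILetI false
set_option backward.isDefEq.respectTransparency false
set_option backward.isDefEq.respectTransparency.types false

universe u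

open CategoryTheory CategoryTheory.Limits AlgebraicGeometry TopologicalSpace Opposite

noncomputable section

namespace Groth.Agent.GrLib8.SurfExt

variable {X : Scheme.{u}} {P : X.Modules} (φ : P ⟶ Coh.structureModule X)

/-- The image of `φ` on the sections over an open. -/
def imgOn (U : X.Opens) : Ideal Γ(X, U) where
  carrier := Set.range fun s : Γ(P, U) => OmegaSh.fnSect X U (φ.app U s)
  add_mem' := by
    rintro _ _ ⟨s, rfl⟩ ⟨t, rfl⟩
    exact ⟨s + t, by simp only [map_add]⟩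
  zero_mem' := ⟨0, by simp only [map_zero]⟩
  smul_mem' := by
    rintro c _ ⟨s, rfl⟩
    refine ⟨c • s, ?_⟩
    show OmegaSh.fnSect X U (φ.app U (c • s)) = c * OmegaSh.fnSect X U (φ.app U s)
    rw [Scheme.Modules.Hom.app_smul]
    rfl

theorem map_imgOn (hP : Coh.IsQCoh P) {U : X.Opens} (hU : IsAffineOpen U) (f : Γ(X, U)) :
    (imgOn φ U).map (X.presheaf.map (homOfLE (X.basicOpen_le f)).op).hom = imgOn φ (X.basicOpen f) := by
  have hcomm : ∀ s : Γ(P, U), OmegaSh.fnSect X (X.basicOpen f)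
      (φ.app (X.basicOpen f) (P.presheaf.map (homOfLE (X.basicOpen_le f)).op s)) =
      X.presheaf.map (homOfLE (X.basicOpen_le f)).op (OmegaSh.fnSect X U (φ.app U s)) := fun s => by
    rw [QCoh.map_app_comm]
    rfl
  refine le_antisymm (Ideal.map_le_iff_le_comap.2 ?_) ?_
  · rintro _ ⟨s, rfl⟩
    exact ⟨_, hcomm s⟩
  · rintro _ ⟨y, rfl⟩
    letI := QCoh.basicModule f P
    haveI := QCoh.isLocalizedModule_basicRes f hP hU
    haveI := hU.isLocalization_basicOpen f
    obtain ⟨⟨s, c⟩, hsc⟩ := IsLocalizedModule.surj (Submonoid.powers f) (QCoh.basicRes f P) y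
    have hu : IsUnit (X.presheaf.map (homOfLE (X.basicOpen_le f)).op c.1) :=
      IsLocalization.map_units Γ(X, X.basicOpen f) c
    refine (Ideal.unit_mul_mem_iff_mem _ hu).1 ?_
    have h1 : (X.presheaf.map (homOfLE (X.basicOpen_le f)).op c.1 : Γ(X, X.basicOpen f)) • y =
        P.presheaf.map (homOfLE (X.basicOpen_le f)).op s := hsc
    have h2 := (Scheme.Modules.Hom.app_smul φ (X.presheaf.map (homOfLE (X.basicOpen_le f)).op c.1) y).symm.trans
      (congrArg (φ.app (X.basicOpen f)) h1)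
    have h3 : X.presheaf.map (homOfLE (X.basicOpen_le f)).op c.1 * OmegaSh.fnSect X (X.basicOpen f) (φ.app _ y) =
        X.presheaf.map (homOfLE (X.basicOpen_le f)).op (OmegaSh.fnSect X U (φ.app U s)) :=
      Eq.trans (congrArg (OmegaSh.fnSect X (X.basicOpen f)) h2) (hcomm s)
    rw [h3]
    exact Ideal.mem_map_of_mem _ ⟨s, rfl⟩

/-- The image ideal of `φ`. -/
def imgIdeal (hP : Coh.IsQCoh P) : X.IdealSheafData where
  ideal U := imgOn φ U.1
  map_ideal_basicOpen U f := map_imgOn φ hP U.2 f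

theorem imgIdeal_ideal (hP : Coh.IsQCoh P) (U : X.affineOpens) : (imgIdeal φ hP).ideal U = imgOn φ U.1 := rfl

theorem comp_toSubscheme (hP : Coh.IsQCoh P) : φ ≫ ClSub.toSubscheme (imgIdeal φ hP) = 0 := by
  apply Scheme.Modules.hom_ext
  intro W
  ext s
  refine AModX.eq_of_locally (M := ClSub.quotMod (imgIdeal φ hP)) _ _ fun p hp => ?_
  obtain ⟨_, ⟨A, hA, rfl⟩, hpA, hAW⟩ :=
    X.isBasis_affineOpens.exists_subset_of_mem_open (show p ∈ (W : X.Opens) from hp) W.2
  refine ⟨A, hAW, hpA, ?_⟩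
  rw [show AModX.res (ClSub.quotMod (imgIdeal φ hP)) hAW ((0 : P ⟶ ClSub.quotMod (imgIdeal φ hP)).app W s) = 0
    from map_zero _, ← AModX.app_res]
  have hm : OmegaSh.fnSect X A (φ.app A (AModX.res P hAW s)) ∈ (imgIdeal φ hP).ideal ⟨A, hA⟩ := ⟨_, rfl⟩
  rw [← (imgIdeal φ hP).ker_subschemeι_app, RingHom.mem_ker] at hm
  exact hm

/-- The corestriction of `φ` to its image. -/
def toImg (hP : Coh.IsQCoh P) : P ⟶ ClSub.idealMod (imgIdeal φ hP) := kernel.lift _ φ (comp_toSubscheme φ hP)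

theorem toImg_ι (hP : Coh.IsQCoh P) : toImg φ hP ≫ ClSub.idealModι (imgIdeal φ hP) = φ := kernel.lift_ι _ _ _

theorem epi_toImg (hP : Coh.IsQCoh P) : Epi (toImg φ hP) := by
  refine RegTilde.epi_of_locally_surjective _ fun U s x => ?_
  obtain ⟨_, ⟨A, hA, rfl⟩, hxA, hAU⟩ :=
    X.isBasis_affineOpens.exists_subset_of_mem_open (show x.1 ∈ (U : X.Opens) from x.2) U.2
  obtain ⟨t, ht⟩ : OmegaSh.idealSect (imgIdeal φ hP) A ((ClSub.idealMod (imgIdeal φ hP)).presheaf.map (homOfLE hAU).op s) ∈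
      imgOn φ A := OmegaLib.idealSect_mem (imgIdeal φ hP) ⟨A, hA⟩ _
  refine ⟨A, hAU, hxA, t, OmegaLib.idealSect_injective (imgIdeal φ hP) A (Eq.trans ?_ ht)⟩
  rw [OmegaSh.idealSect_apply]
  exact congrArg (fun ψ : P ⟶ _ => OmegaSh.fnSect X A (ψ.app A t)) (toImg_ι φ hP)

/-- A map of ideal modules over `O` gives an inclusion of ideals. -/
theorem le_of_hom {I J : X.IdealSheafData} (ψ : ClSub.idealMod I ⟶ ClSub.idealMod J)
    (h : ψ ≫ ClSub.idealModι J = ClSub.idealModι I) : I ≤ J := fun U x hx => by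
  obtain ⟨t, rfl⟩ := OmegaLib.exists_of_mem I U x hx
  have e : OmegaSh.idealSect J U.1 (ψ.app U.1 t) = OmegaSh.idealSect I U.1 t :=
    congrArg (fun χ : ClSub.idealMod I ⟶ _ => OmegaSh.fnSect X U.1 (χ.app U.1 t)) h
  exact e ▸ OmegaLib.idealSect_mem J U _

end Groth.Agent.GrLib8.SurfExt
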