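import Groth.Agent.GrLib8.SurfExt.Hartogs
import Groth.Agent.NormalLib.Finite
import Groth.Agent.ConsPropLib.FibreLocFree

/-!
# Locally free extensions of ideals of finite subschemes of a regular surface
-/

set_option autoImplicit false
set_option linter.style.haveILetI false
set_option linter.unusedSectionVars false
set_option backward.isDefEq.respectTransparency false
set_option backward.isDefEq.respectTransparency.types false
set_option maxHeartbeats 1000000

universe u

open CategoryTheory CategoryTheory.Limits AlgebraicGeometry TopologicalSpace Opposite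

noncomputable section

namespace Groth.Agent.GrLib8.SurfExt

variable {X : Scheme.{u}}

theorem support_subset_of_le {I J : X.IdealSheafData} (h : I ≤ J) : (J.support : Set X) ⊆ (I.support : Set X) :=
  Scheme.IdealSheafData.support_antitone h

variable [IsIntegral X] [IsLocallyNoetherian X]
  {M F : X.Modules} (hM : FlatMod.IsFinLocFree M) {IZ : X.IdealSheafData} {a : M ⟶ F}
  {b : F ⟶ ClSub.idealMod IZ} {w : a ≫ b = 0} (hex : (ShortComplex.mk a b w).ShortExact)
  (hU : ∀ x : ↥X, x ∉ compl IZ → (2 : ℕ∞) ≤ LocCoh.depth (X.presheaf.stalk x) (X.presheaf.stalk x))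

include hM hex in
theorem isCoh_mid : Coh.IsCoh F :=
  KZ.isCoh_X₂ hex (QCoh.isCoh_iff_isFP.2 (QCoh.isFP_of_isFinLocFree hM)) (NormalLib.isCoh_idealMod IZ)

include hM hex hU in
/-- An extension which is not locally free comes from a strictly larger ideal. -/
theorem exists_larger (hreg : ∀ x : ↥X, IsRegularLocalRing (X.presheaf.stalk x)) (hdim : topologicalKrullDim ↥X ≤ 2)
    (hF : ¬ FlatMod.IsFinLocFree F) :
    ∃ (I' : X.IdealSheafData) (F' : X.Modules) (a' : M ⟶ F') (b' : F' ⟶ ClSub.idealMod I') (w' : a' ≫ b' = 0)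
      (φ : ClSub.idealMod IZ ⟶ ClSub.idealMod I') (g : F ⟶ F'),
      IZ < I' ∧ (ShortComplex.mk a' b' w').ShortExact ∧ φ ≫ ClSub.idealModι I' = ClSub.idealModι IZ ∧
        a ≫ g = a' ∧ g ≫ b' = b ≫ φ ∧ FlatMod.IsFinLocFree F' := by
  let U := compl IZ
  let η := unit U
  let O := Coh.structureModule X
  haveI hOi : IsIso (η.app O) := isIso_unit_of_finLocFree hU (H9Misc.LocFreeHomTensor.isFinLocFree_structure X)
  haveI hMi : IsIso (η.app M) := isIso_unit_of_finLocFree hU hM
  have hF' : FlatMod.IsFinLocFree ((jj U).obj F) := isFinLocFree_jj hU hreg hdim (isCoh_mid hM hex)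
    fun x hx => free_stalk_ext hM IZ hex hx
  have hP : Coh.IsQCoh ((jj U).obj F) := (QCoh.isCoh_iff_isFP.2 (QCoh.isFP_of_isFinLocFree hF')).1
  haveI : Mono (ClSub.idealModι IZ) := inferInstanceAs (Mono (kernel.ι _))
  haveI : Mono a := hex.mono_f
  haveI : Epi b := hex.epi_g
  let e : F ⟶ O := b ≫ ClSub.idealModι IZ
  let e' : (jj U).obj F ⟶ O := (jj U).map e ≫ inv (η.app O)
  have hη : η.app F ≫ e' = e := by
    have h : e ≫ η.app O = η.app F ≫ (jj U).map e := η.naturality e
    show η.app F ≫ (jj U).map e ≫ inv (η.app O) = e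
    rw [← Category.assoc, ← h, Category.assoc, IsIso.hom_inv_id, Category.comp_id]
  let I' := imgIdeal e' hP
  let b' := toImg e' hP
  have hb' : b' ≫ ClSub.idealModι I' = e' := toImg_ι e' hP
  haveI : Mono (ClSub.idealModι I') := inferInstanceAs (Mono (kernel.ι _))
  haveI : Epi b' := epi_toImg e' hP
  have w₁ : (a ≫ η.app F) ≫ e' = 0 := by
    rw [Category.assoc, hη]
    show a ≫ b ≫ ClSub.idealModι IZ = 0
    rw [← Category.assoc, w, zero_comp]
  have w' : (a ≫ η.app F) ≫ b' = 0 := by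
    rw [← cancel_mono (ClSub.idealModι I'), Category.assoc, hb', w₁, zero_comp]
  have hex₀ : (ShortComplex.mk a e (by rw [← Category.assoc, w, zero_comp])).Exact := by
    let θ : ShortComplex.mk a b w ⟶ ShortComplex.mk a e (by rw [← Category.assoc, w, zero_comp]) :=
      { τ₁ := 𝟙 _, τ₂ := 𝟙 _, τ₃ := ClSub.idealModι IZ, comm₁₂ := by simp, comm₂₃ := by simp [e] }
    haveI : Epi θ.τ₁ := inferInstanceAs (Epi (𝟙 M))
    haveI : IsIso θ.τ₂ := inferInstanceAs (IsIso (𝟙 F))
    haveI : Mono θ.τ₃ := inferInstanceAs (Mono (ClSub.idealModι IZ))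
    exact (ShortComplex.exact_iff_of_epi_of_isIso_of_mono θ).1 hex.exact
  haveI : PreservesFiniteLimits (Scheme.Modules.restrictFunctor U.ι) := inferInstance
  haveI : PreservesLimitsOfSize.{0, 0} (Scheme.Modules.pushforward U.ι) :=
    (Scheme.Modules.restrictAdjunction U.ι).rightAdjoint_preservesLimits
  haveI : (jj U).PreservesZeroMorphisms := inferInstance
  have hex₁ := hex₀.map_of_mono_of_preservesKernel (jj U) inferInstance inferInstance
  haveI hma : Mono (a ≫ η.app F) := by
    have h : a ≫ η.app F = η.app M ≫ (jj U).map a := η.naturality a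
    rw [h]
    infer_instance
  have hex₂ : (ShortComplex.mk (a ≫ η.app F) e' w₁).Exact := by
    refine ShortComplex.exact_of_iso ?_ hex₁
    refine ShortComplex.isoMk (asIso (η.app M)).symm (Iso.refl _) (asIso (η.app O)).symm ?_ ?_
    · show inv (η.app M) ≫ a ≫ η.app F = (jj U).map a ≫ 𝟙 _
      rw [Category.comp_id, IsIso.inv_comp_eq]
      exact η.naturality a
    · show 𝟙 _ ≫ e' = (jj U).map e ≫ inv (η.app O)
      rw [Category.id_comp]
  have hex' : (ShortComplex.mk (a ≫ η.app F) b' w').ShortExact := by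
    let θ : ShortComplex.mk (a ≫ η.app F) b' w' ⟶ ShortComplex.mk (a ≫ η.app F) e' w₁ :=
      { τ₁ := 𝟙 _, τ₂ := 𝟙 _, τ₃ := ClSub.idealModι I', comm₁₂ := by simp, comm₂₃ := by simp [hb'] }
    haveI : Epi θ.τ₁ := inferInstanceAs (Epi (𝟙 M))
    haveI : IsIso θ.τ₂ := inferInstanceAs (IsIso (𝟙 ((jj U).obj F)))
    haveI : Mono θ.τ₃ := inferInstanceAs (Mono (ClSub.idealModι I'))
    exact { exact := (ShortComplex.exact_iff_of_epi_of_isIso_of_mono θ).2 hex₂, mono_f := hma,
            epi_g := inferInstanceAs (Epi b') }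
  have hz : ClSub.idealModι IZ ≫ ClSub.toSubscheme I' = 0 := by
    rw [← cancel_epi b, comp_zero, ← Category.assoc]
    show e ≫ ClSub.toSubscheme I' = 0
    rw [← hη, Category.assoc, comp_toSubscheme, comp_zero]
  let φ : ClSub.idealMod IZ ⟶ ClSub.idealMod I' := kernel.lift _ (ClSub.idealModι IZ) hz
  have hφ : φ ≫ ClSub.idealModι I' = ClSub.idealModι IZ := kernel.lift_ι _ _ _
  have hg : η.app F ≫ b' = b ≫ φ := by
    rw [← cancel_mono (ClSub.idealModι I'), Category.assoc, hb', hη, Category.assoc, hφ]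
  refine ⟨I', _, a ≫ η.app F, b', w', φ, η.app F, lt_of_le_of_ne (le_of_hom φ hφ) ?_, hex', hφ, rfl, hg, hF'⟩
  intro heq
  have key : ∀ (J : X.IdealSheafData) (c : (jj U).obj F ⟶ ClSub.idealMod J)
      (ψ : ClSub.idealMod IZ ⟶ ClSub.idealMod J) (wc : (a ≫ η.app F) ≫ c = 0),
      (ShortComplex.mk (a ≫ η.app F) c wc).ShortExact → ψ ≫ ClSub.idealModι J = ClSub.idealModι IZ →
      η.app F ≫ c = b ≫ ψ → IZ = J → IsIso (η.app F) := by
    intro J c ψ wc hc hψ hcg hJ
    subst hJ
    have hid : ψ = 𝟙 _ := by rw [← cancel_mono (ClSub.idealModι IZ), hψ, Category.id_comp]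
    subst hid
    let θ : ShortComplex.mk a b w ⟶ ShortComplex.mk (a ≫ η.app F) c wc :=
      { τ₁ := 𝟙 _, τ₂ := η.app F, τ₃ := 𝟙 _, comm₁₂ := by simp, comm₂₃ := hcg }
    haveI : IsIso θ.τ₁ := inferInstanceAs (IsIso (𝟙 M))
    haveI : IsIso θ.τ₃ := inferInstanceAs (IsIso (𝟙 (ClSub.idealMod IZ)))
    exact ShortComplex.isIso₂_of_shortExact_of_isIso₁₃ θ hex hc
  haveI := key I' b' φ w' hex' hφ hg heq
  exact hF ((ConsPropLib.isFinLocFree_iso (asIso (η.app F))).2 hF')

include hex hU in
/-- An extension induced from a strictly larger ideal is not locally free. -/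
theorem not_finLocFree_of_larger {I' : X.IdealSheafData} {F' : X.Modules} {a' : M ⟶ F'}
    {b' : F' ⟶ ClSub.idealMod I'} {w' : a' ≫ b' = 0} {φ : ClSub.idealMod IZ ⟶ ClSub.idealMod I'} {g : F ⟶ F'}
    (hlt : IZ < I') (hex' : (ShortComplex.mk a' b' w').ShortExact)
    (hφ : φ ≫ ClSub.idealModι I' = ClSub.idealModι IZ) (hag : a ≫ g = a') (hgb : g ≫ b' = b ≫ φ) :
    ¬ FlatMod.IsFinLocFree F := by
  intro hF
  let U := compl IZ
  let η := unit U
  let O := Coh.structureModule X
  haveI hOi : IsIso (η.app O) := isIso_unit_of_finLocFree hU (H9Misc.LocFreeHomTensor.isFinLocFree_structure X)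
  haveI hFi : IsIso (η.app F) := isIso_unit_of_finLocFree hU hF
  haveI : Mono (ClSub.idealModι IZ) := inferInstanceAs (Mono (kernel.ι _))
  haveI : Mono (ClSub.idealModι I') := inferInstanceAs (Mono (kernel.ι _))
  haveI : IsIso ((Scheme.Modules.restrictFunctor U.ι).map g) := by
    refine RegConormal.isIso_restrict_map U.ι g fun y => ?_
    let x : X := U.ι.base y
    have hx : x ∉ (IZ.support : Set X) := y.2
    let S := DerSch.stalkFunctor X x
    haveI := isIso_stalk_idealModι IZ hx
    haveI := isIso_stalk_idealModι I' (fun h => hx (support_subset_of_le hlt.le h))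
    haveI : IsIso (S.map φ) := by
      have h : S.map φ ≫ S.map (ClSub.idealModι I') = S.map (ClSub.idealModι IZ) := by rw [← S.map_comp, hφ]
      exact IsIso.of_isIso_fac_right h
    let θ : (ShortComplex.mk a b w).map S ⟶ (ShortComplex.mk a' b' w').map S :=
      { τ₁ := 𝟙 _, τ₂ := S.map g, τ₃ := S.map φ
        comm₁₂ := by
          show 𝟙 _ ≫ S.map a' = S.map a ≫ S.map g
          rw [Category.id_comp, ← S.map_comp, hag]
        comm₂₃ := by
          show S.map g ≫ S.map b' = S.map b ≫ S.map φ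
          rw [← S.map_comp, hgb, S.map_comp] }
    haveI : IsIso θ.τ₁ := inferInstanceAs (IsIso (𝟙 (S.obj M)))
    haveI : IsIso θ.τ₃ := inferInstanceAs (IsIso (S.map φ))
    haveI : IsIso (S.map g) :=
      ShortComplex.isIso₂_of_shortExact_of_isIso₁₃ θ (hex.map_of_exact S) (hex'.map_of_exact S)
    exact ConcreteCategory.bijective_of_isIso (S.map g)
  haveI : IsIso ((jj U).map g) := inferInstanceAs (IsIso ((Scheme.Modules.pushforward U.ι).map _))
  let r : F' ⟶ F := η.app F' ≫ inv ((jj U).map g) ≫ inv (η.app F)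
  have hgr : g ≫ r = 𝟙 F := by
    have h : g ≫ η.app F' = η.app F ≫ (jj U).map g := η.naturality g
    show g ≫ η.app F' ≫ inv ((jj U).map g) ≫ inv (η.app F) = 𝟙 F
    rw [← Category.assoc, h, Category.assoc, ← Category.assoc ((jj U).map g), IsIso.hom_inv_id, Category.id_comp,
      IsIso.hom_inv_id]
  have hrb : r ≫ b ≫ φ = b' := by
    rw [← cancel_mono (ClSub.idealModι I')]
    let P := (r ≫ b ≫ φ) ≫ ClSub.idealModι I'
    let Q := b' ≫ ClSub.idealModι I'
    have hPQ : g ≫ P = g ≫ Q := by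
      show g ≫ (r ≫ b ≫ φ) ≫ ClSub.idealModι I' = g ≫ b' ≫ ClSub.idealModι I'
      rw [Category.assoc, reassoc_of% hgr, reassoc_of% hgb, Category.assoc]
    show P = Q
    rw [← cancel_mono (η.app O)]
    have hTPQ : (jj U).map P = (jj U).map Q := by
      rw [← cancel_epi ((jj U).map g), ← Functor.map_comp, ← Functor.map_comp, hPQ]
    exact (η.naturality P).trans ((congrArg (η.app F' ≫ ·) hTPQ).trans (η.naturality Q).symm)
  haveI : Epi b' := hex'.epi_g
  haveI : Epi φ := by
    haveI : Epi ((r ≫ b) ≫ φ) := by rw [Category.assoc, hrb]; infer_instance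
    exact epi_of_epi (r ≫ b) φ
  haveI : Mono φ := mono_of_mono_fac hφ
  haveI : IsIso φ := isIso_of_mono_of_epi φ
  exact hlt.ne (le_antisymm hlt.le (le_of_hom (inv φ) (by rw [IsIso.inv_comp_eq, hφ])))

end Groth.Agent.GrLib8.SurfExt
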